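import Groth.Agent.NGeomPts.Count
import Groth.Agent.FlatMor2.Weighting.Applications
import Groth.Prelude.Def_EGA43

/-!
# Semicontinuity of the geometric number of points at points of universal openness
-/

universe u

open CategoryTheory CategoryTheory.Limits AlgebraicGeometry Topology Filter

namespace Groth.NGeomPts

open Groth.FlatMor2

variable {X Y : Scheme.{u}} (f : X ⟶ Y) [LocallyQuasiFinite f] [LocallyOfFiniteType f] [IsSeparated f]
  [QuasiCompact f]

/-- Near a point where `f` is universally open along the fibre, the fibre has at least as many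
geometric points, with equality only if the pieces exhaust it. -/
theorem exists_exhaust (y : Y) (h : ∀ x : X, f x = y → EGA43.IsUnivOpenAt f x) :
    ∃ (V : Scheme.{u}) (k : V ⟶ Y) (v : V), Etale k ∧ k v = y ∧ ∃ (J : Type) (_ : Finite J)
      (Q : J → Piece f k v), ∀ᶠ t in 𝓝 v,
        MoreMor.fibreIntegral f (fun _ ↦ 1) y ≤ MoreMor.fibreIntegral f (fun _ ↦ 1) (k t) ∧
        (MoreMor.fibreIntegral f (fun _ ↦ 1) (k t) = MoreMor.fibreIntegral f (fun _ ↦ 1) y →
          ∀ x, pullback.snd f k x = t → ∃ j, x ∈ (Q j).opens) := by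
  classical
  have hfin : ∀ y : Y, (f ⁻¹' {y}).Finite := fun y ↦ f.finite_preimage_singleton y
  obtain ⟨V, k, v, hk, hkv, J, _, Q, hinj, hmem, hcov⟩ :=
    exists_pieces f y (f ⁻¹' {y}) (hfin y) fun x hx => hx
  have := Fintype.ofFinite J
  let p := pullback.snd f k
  have hfinQ := fun j => (Q j).finite
  have h1 : ∀ᶠ t in 𝓝 v, ∀ j, 1 ≤ openIntegral p (Q j).opens (fun _ => 1) t :=
    Filter.eventually_all.mpr fun j => by
      have hop := h _ (hmem j) V k (Q j).pt rfl _ ((Q j).opens.2.mem_nhds (Q j).pt_mem)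
      rw [(Q j).snd_pt] at hop
      filter_upwards [hop] with t ht
      obtain ⟨x, hx, hxt⟩ := ht
      let vb := algClosurePt t
      obtain ⟨σ, hσ, -⟩ := exists_mem_openPts p (Q j).opens vb hx
        (hxt.trans (ptOf_algClosurePt t).symm)
      rw [openIntegral_eq_sum p (Q j).opens vb _ (ptOf_algClosurePt t),
        finsum_mem_eq_finite_toFinset_sum _ (finite_openPts _ _ vb)]
      exact Finset.single_le_sum (f := fun _ => (1 : ℤ)) (fun _ _ => zero_le_one)
        ((Set.Finite.mem_toFinset _).mpr hσ)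
  have h2 : ∀ᶠ t in 𝓝 v, ∀ i j, i ≠ j → ∀ x, pullback.snd f k x = t → x ∈ (Q i).opens →
      x ∉ (Q j).opens :=
    Filter.eventually_all.mpr fun i => Filter.eventually_all.mpr fun j => by
      by_cases hij : i = j
      · exact .of_forall fun t h => absurd hij h
      exact (eventually_disjoint (pullback.snd f k) v (Q i).opens (Q j).opens ⊤
        (fun _ _ _ => trivial) (fun _ _ _ => trivial) fun x hxv hi hj => hij (hinj
          (((Q i).eq_pt x hi hxv).symm.trans ((Q j).eq_pt x hj hxv)))).mono fun t h _ => h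
  refine ⟨V, k, v, hk, hkv, J, inferInstance, Q, ?_⟩
  have main : ∀ t, (∀ i j, i ≠ j → ∀ x, p x = t → x ∈ (Q i).opens → x ∉ (Q j).opens) →
      (∑ j, openIntegral p (Q j).opens (fun _ => 1) t) ≤
        MoreMor.fibreIntegral f (fun _ ↦ 1) (k t) ∧
      ((∑ j, openIntegral p (Q j).opens (fun _ => 1) t) =
        MoreMor.fibreIntegral f (fun _ ↦ 1) (k t) ↔ ∀ x, p x = t → ∃ j, x ∈ (Q j).opens) := by
    intro t hdisj
    let vb := algClosurePt t
    have hv : ptOf (vb ≫ k) = k t := by rw [ptOf_comp, ptOf_algClosurePt]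
    have := finite_geomPt f (vb ≫ k) (hfin _)
    have := Finite.of_equiv _ (geomPtBaseChange (IsPullback.of_hasPullback f k) vb).symm
    have := Fintype.ofFinite (GeomPt p vb)
    rw [← fibreIntegral_baseChange (IsPullback.of_hasPullback f k) (fun _ ↦ (1 : ℤ)) t (hfin _)]
    change _ ≤ MoreMor.fibreIntegral p (fun _ ↦ 1) t ∧
      (_ = MoreMor.fibreIntegral p (fun _ ↦ 1) t ↔ _)
    rw [fibreIntegral_eq_sum _ vb _ (ptOf_algClosurePt t), finsum_eq_sum_of_fintype]
    have hsum : (∑ j, openIntegral p (Q j).opens (fun _ => (1 : ℤ)) t) =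
        ∑ σ ∈ (⋃ j, openPts p (Q j).opens vb).toFinset, (1 : ℤ) := by
      rw [← finsum_mem_eq_toFinset_sum, finsum_mem_iUnion (t := fun j => openPts _ (Q j).opens vb)
        (fun i j hij => Set.disjoint_left.mpr fun σ hi hj => hdisj i j hij _
          (σ.apply_ptOf.trans (ptOf_algClosurePt t)) hi hj) (fun j => Set.toFinite _),
        finsum_eq_sum_of_fintype]
      exact Finset.sum_congr rfl fun j _ =>
        openIntegral_eq_sum _ (Q j).opens vb _ (ptOf_algClosurePt t)
    rw [hsum]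
    refine ⟨Finset.sum_le_univ_sum_of_nonneg fun σ => zero_le_one, ?_, fun H => ?_⟩
    · intro heq x hx
      obtain ⟨σ, hσ⟩ := exists_geomPt_at p vb x (hx.trans (ptOf_algClosurePt t).symm)
      by_contra hxQ
      refine absurd heq (ne_of_lt (Finset.sum_lt_sum_of_subset (i := σ) (Finset.subset_univ _)
        (Finset.mem_univ _) (fun h => hxQ ?_) zero_lt_one fun τ _ _ => zero_le_one))
      obtain ⟨j, hj⟩ := Set.mem_iUnion.mp (Set.mem_toFinset.mp h)
      exact ⟨j, hσ ▸ hj⟩
    · refine Finset.sum_congr (Finset.eq_univ_iff_forall.mpr fun σ => Set.mem_toFinset.mpr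
        (Set.mem_iUnion.mpr (H _ (σ.apply_ptOf.trans (ptOf_algClosurePt t))))) fun _ _ => rfl
  have heq0 : (∑ _j : J, (1 : ℤ)) = MoreMor.fibreIntegral f (fun _ ↦ 1) y := by
    rw [← hkv, ← (main v h2.self_of_nhds).2.mpr fun x hx => ?_]
    · exact Finset.sum_congr rfl fun j _ => ((Q j).openIntegral_self (fun _ => 1)).symm
    obtain ⟨j, hj⟩ := hcov x hx
      ((congr($(pullback.condition (f := f) (g := k)) x)).trans (by
        rw [Scheme.Hom.comp_apply, hx, hkv]))
    exact ⟨j, hj ▸ (Q j).pt_mem⟩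
  filter_upwards [h1, h2] with t t1 t2
  obtain ⟨ht, ht'⟩ := main t t2
  have hle := heq0.symm.le.trans (Finset.sum_le_sum fun j (_ : j ∈ Finset.univ) => t1 j)
  exact ⟨hle.trans ht, fun h => ht'.mp (le_antisymm ht (h.le.trans hle))⟩

/-- Lower semicontinuity of the geometric number of points at a point of universal openness. -/
theorem eventually_nGeomConnComp_le (y : Y) (h : ∀ x : X, f x = y → EGA43.IsUnivOpenAt f x) :
    ∀ᶠ z in 𝓝 y, MoreMor.nGeomConnComp f y ≤ MoreMor.nGeomConnComp f z := by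
  obtain ⟨V, k, v, hk, hkv, J, _, Q, hQ⟩ := exists_exhaust f y h
  obtain ⟨N, hN, hNo, hvN⟩ := eventually_nhds_iff.mp hQ
  refine Filter.mem_of_superset ((k.isOpenMap _ hNo).mem_nhds ⟨v, hvN, hkv⟩) ?_
  rintro _ ⟨t, ht, rfl⟩
  obtain ⟨m, hm, hm'⟩ := exists_nGeomConnComp_eq f y (f.finite_preimage_singleton y)
  obtain ⟨m', hn, hn'⟩ := exists_nGeomConnComp_eq f (k t) (f.finite_preimage_singleton _)
  show MoreMor.nGeomConnComp f y ≤ MoreMor.nGeomConnComp f (k t)
  rw [hm, hn]
  have := (hN t ht).1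
  rw [hm', hn'] at this
  exact_mod_cast this

/-- Where the geometric number of points is locally constant the morphism is finite. -/
theorem exists_isFinite_nhd (y : Y) (h : ∀ x : X, f x = y → EGA43.IsUnivOpenAt f x)
    (hc : ∀ᶠ z in 𝓝 y, MoreMor.nGeomConnComp f z = MoreMor.nGeomConnComp f y) :
    ∃ M : Y.Opens, y ∈ M ∧ IsFinite (f ∣_ M) := by
  obtain ⟨W, hW, hWo, hyW⟩ := eventually_nhds_iff.mp hc
  obtain ⟨V, k, v, hk, hkv, J, _, Q, hQ⟩ := exists_exhaust f y h
  obtain ⟨N, hN, hNo, hvN⟩ := eventually_nhds_iff.mp hQ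
  let N' : V.Opens := ⟨N, hNo⟩ ⊓ k ⁻¹ᵁ ⟨W, hWo⟩
  let k' := N'.ι ≫ k
  let M : Y.Opens := ⟨Set.range k', k'.isOpenMap.isOpen_range⟩
  refine ⟨M, ⟨⟨v, hvN, show k v ∈ W from hkv.symm ▸ hyW⟩, hkv⟩, ?_⟩
  let q := IsOpenImmersion.lift M.ι k' (by rw [Scheme.Opens.range_ι]; rfl)
  have hq : q ≫ M.ι = k' := IsOpenImmersion.lift_fac _ _ _
  have : Etale q := by
    have : Etale (q ≫ M.ι) := by rw [hq]; infer_instance
    exact MorphismProperty.of_postcomp (W := @Etale) (W' := @IsOpenImmersion) q M.ι inferInstance this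
  have : Surjective q := ⟨fun ⟨_, t, ht⟩ => ⟨t, M.ι.isOpenEmbedding.injective
    ((congr($hq t)).trans ht)⟩⟩
  have hfinN : IsFinite (pullback.snd f k') := by
    let qN := pullMap f N'.ι (rfl : N'.ι ≫ k = k')
    have hc := isPullback_pullMap f N'.ι (rfl : N'.ι ≫ k = k')
    have htop : (⨆ j, qN ⁻¹ᵁ (Q j).opens) = ⊤ := by
      refine eq_top_iff.mpr fun x _ => TopologicalSpace.Opens.mem_iSup.mpr ?_
      obtain ⟨htN, htY⟩ := (pullback.snd f k' x).2
      refine (hN _ htN).2 ?_ (qN x) (snd_pullMap f _ _ x)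
      obtain ⟨m, hm, hm'⟩ := exists_nGeomConnComp_eq f y (f.finite_preimage_singleton y)
      obtain ⟨m', hn, hn'⟩ := exists_nGeomConnComp_eq f (k (pullback.snd f k' x).1)
        (f.finite_preimage_singleton _)
      have := hW _ htY
      rw [hm, hn] at this
      rw [hm', hn']
      exact_mod_cast this
    have h2 := Flatmor4.isFinite_iSup (pullback.snd f k') (fun j => qN ⁻¹ᵁ (Q j).opens)
      fun j => have := (Q j).finite; (openIntegral_baseChange hc (Q j).opens).1
    rw [htop, ← Scheme.topIso_hom, MorphismProperty.cancel_left_of_respectsIso @IsFinite] at h2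
    exact h2
  have hpb : IsPullback (pullback.snd (f ∣_ M) q) (pullback.fst (f ∣_ M) q) q (f ∣_ M) :=
    (IsPullback.of_hasPullback _ _).flip
  refine MorphismProperty.of_isPullback_of_descendsAlong (Q := @Surjective ⊓ @Flat ⊓ @LocallyOfFinitePresentation)
    hpb ⟨⟨inferInstance, inferInstance⟩, inferInstance⟩ ?_
  have h : IsPullback (pullback.fst (f ∣_ M) q ≫ (f ⁻¹ᵁ M).ι) (pullback.snd (f ∣_ M) q) f k' :=
    hq ▸ (IsPullback.of_hasPullback (f ∣_ M) q).paste_horiz (isPullback_morphismRestrict f M).flip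
  have : pullback.snd (f ∣_ M) q = h.isoPullback.hom ≫ pullback.snd f k' :=
    h.isoPullback_hom_snd.symm
  rw [this]
  infer_instance

theorem isUnivOpenAt_of_universallyOpen {X Y : Scheme.{u}} (f : X ⟶ Y) [UniversallyOpen f] (x : X) :
    EGA43.IsUnivOpenAt f x :=
  fun _ g _ _ _ hU => (pullback.snd f g).isOpenMap.image_mem_nhds hU

end Groth.NGeomPts
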