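import Groth.Agent.FlatMor2.Weighting.GeomPoints
import Groth.Agent.FlatMor2.GeomFibreLqf
import Mathlib.FieldTheory.IsSepClosed
import Mathlib.AlgebraicGeometry.Morphisms.Finite

/-!
# The geometric number of points of a finite fibre
-/

universe u

open CategoryTheory CategoryTheory.Limits AlgebraicGeometry

namespace Groth.NGeomPts

open Groth.FlatMor2

/-- Over a separably closed field there is at most one geometric point at each point. -/
theorem geomPt_ext {K : Type u} [Field K] [IsSepClosed K] {U : Scheme.{u}}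
    (π : U ⟶ Spec (CommRingCat.of K)) [LocallyQuasiFinite π] [LocallyOfFiniteType π] {Ω : Type u}
    [Field Ω] (σ σ' : Spec (CommRingCat.of Ω) ⟶ U) (he : ptOf σ = ptOf σ') (h : σ ≫ π = σ' ≫ π) :
    σ = σ' := by
  obtain ⟨φ, hφ⟩ := exists_factor_at σ rfl
  obtain ⟨φ', hφ'⟩ := exists_factor_at σ' he.symm
  obtain ⟨a, ha⟩ := Spec.map_surjective (U.fromSpecResidueField (ptOf σ) ≫ π)
  have hcl : IsClosed ({π (ptOf σ)} : Set (Spec (CommRingCat.of K))) := by
    convert isClosed_univ
    exact Set.eq_univ_of_forall fun z ↦ Subsingleton.elim _ _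
  have := isClosed_singleton_iff_isClosedImmersion.1 hcl
  have hres : IsFinite (Spec.map (π.residueFieldMap (ptOf σ))) :=
    (IsFinite.SpecMap_iff _).2 (Flatmor4.finite_residueFieldMap π (π.quasiFiniteAt _))
  have hfin : IsFinite (Spec.map a) := by
    rw [ha, ← Scheme.Hom.SpecMap_residueFieldMap_fromSpecResidueField]
    infer_instance
  rw [IsFinite.SpecMap_iff] at hfin
  let := a.hom.toAlgebra
  have : Module.Finite K (U.residueField (ptOf σ)) := hfin
  have : IsPurelyInseparable K (U.residueField (ptOf σ)) :=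
    Algebra.IsAlgebraic.isPurelyInseparable_of_isSepClosed
  have e : a ≫ φ = a ≫ φ' := Spec.map_injective (by
    rw [Spec.map_comp, Spec.map_comp, ha, reassoc_of% hφ, reassoc_of% hφ', h])
  let : Algebra K Ω := (a ≫ φ).hom.toAlgebra
  let p : U.residueField (ptOf σ) →ₐ[K] Ω := { φ.hom with commutes' := fun _ ↦ rfl }
  let q : U.residueField (ptOf σ) →ₐ[K] Ω :=
    { φ'.hom with commutes' := fun c ↦ (ConcreteCategory.congr_hom e c).symm }
  rw [← hφ, ← hφ', show φ = φ' from CommRingCat.hom_ext (congrArg AlgHom.toRingHom (Subsingleton.elim p q))]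

/-- The number of points in the base change to a separably closed field, as geometric points. -/
noncomputable def equivGeomPt {K : Type u} [Field K] [IsSepClosed K] {U : Scheme.{u}}
    (π : U ⟶ Spec (CommRingCat.of K)) [LocallyQuasiFinite π] [LocallyOfFiniteType π] {Ω : Type u}
    [Field Ω] [IsAlgClosed Ω] (vb : Spec (CommRingCat.of Ω) ⟶ Spec (CommRingCat.of K)) :
    GeomPt π vb ≃ U :=
  Equiv.ofBijective (fun σ ↦ ptOf σ.1)
    ⟨fun σ σ' h ↦ Subtype.ext (geomPt_ext π σ.1 σ'.1 h (σ.2.trans σ'.2.symm)),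
      fun u ↦ exists_geomPt_at π vb u (Subsingleton.elim _ _)⟩

/-- The geometric number of points of a finite fibre is the fibre integral of `1`. -/
theorem exists_nGeomConnComp_eq {X Y : Scheme.{u}} (f : X ⟶ Y) [LocallyQuasiFinite f]
    [LocallyOfFiniteType f] (y : Y) (hfin : (f ⁻¹' {y}).Finite) :
    ∃ m : ℕ, MoreMor.nGeomConnComp f y = m ∧ MoreMor.fibreIntegral f (fun _ ↦ 1) y = m := by
  let K := SeparableClosure (Y.residueField y)
  let k₀ : Spec (CommRingCat.of K) ⟶ Y :=
    Spec.map (CommRingCat.ofHom (algebraMap (Y.residueField y) K)) ≫ Y.fromSpecResidueField y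
  let π := pullback.snd f k₀
  let vb : Spec (CommRingCat.of (AlgebraicClosure K)) ⟶ Spec (CommRingCat.of K) :=
    Spec.map (CommRingCat.ofHom (algebraMap K (AlgebraicClosure K)))
  have hv : ptOf (vb ≫ k₀) = y := by
    rw [ptOf_comp]
    exact Flatmor4.specMap_fromSpecResidueField_apply _ _
  have := finite_geomPt f (vb ≫ k₀) (hv.symm ▸ hfin)
  let e := (geomPtBaseChange (IsPullback.of_hasPullback f k₀) vb).symm.trans (equivGeomPt π vb)
  refine ⟨Nat.card (GeomPt f (vb ≫ k₀)), ?_, ?_⟩
  · have hd : DiscreteTopology ↥(pullback f k₀) := by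
      have h : _root_.IsDiscrete (π ⁻¹' {default}) := Scheme.Hom.isDiscrete_preimage_singleton _ _
      rw [show π ⁻¹' {default} = Set.univ from
        Set.eq_univ_of_forall fun z ↦ Subsingleton.elim _ _] at h
      exact isDiscrete_univ_iff.mp h
    let i : MoreMor.geomFiber f y ≅ pullback f k₀ := pullbackLeftPullbackSndIso f _ _
    have hd' : DiscreteTopology ↥(MoreMor.geomFiber f y) :=
      i.hom.homeomorph.symm.discreteTopology
    rw [MoreMor.nGeomConnComp, card_connectedComponents_of_discrete,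
      ENat.card_congr (i.hom.homeomorph.toEquiv.trans e.symm), ENat.card_eq_coe_natCard]
  · rw [fibreIntegral_eq_sum f (vb ≫ k₀) _ hv]
    have := Fintype.ofFinite (GeomPt f (vb ≫ k₀))
    rw [finsum_eq_sum_of_fintype]
    simp

end Groth.NGeomPts
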