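import Groth.Agent.NGeomPts.Lsc
import Groth.Agent.EtaleBaseTwo.EtaleComponents
import Groth.Agent.EGA43Topo.ComponentUnique
import Groth.Agent.EGA43Topo.UnivOpenFibre

/-!
# Locally constant geometric number of points over a geometrically unibranch base (helper92)
-/

set_option autoImplicit false

universe u

open CategoryTheory CategoryTheory.Limits AlgebraicGeometry Topology Filter

namespace Groth.NGeomPts

open Groth.FlatMor2

variable {X Y : Scheme.{u}} (f : X ⟶ Y) [LocallyQuasiFinite f] [LocallyOfFiniteType f] [IsSeparated f]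
  [QuasiCompact f]

/-- Near a point where `f` is universally open along the fibre, the fibre has at least as many
geometric points, with equality only if the pieces exhaust it. -/
theorem exists_exhaust_unique (y : Y) (h : ∀ x : X, f x = y → EGA43.IsUnivOpenAt f x) :
    ∃ (V : Scheme.{u}) (k : V ⟶ Y) (v : V), Etale k ∧ k v = y ∧ ∃ (J : Type) (_ : Finite J)
      (Q : J → Piece f k v), ∀ᶠ t in 𝓝 v,
        MoreMor.fibreIntegral f (fun _ ↦ 1) y ≤ MoreMor.fibreIntegral f (fun _ ↦ 1) (k t) ∧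
        (MoreMor.fibreIntegral f (fun _ ↦ 1) (k t) = MoreMor.fibreIntegral f (fun _ ↦ 1) y →
          (∀ x, pullback.snd f k x = t → ∃ j, x ∈ (Q j).opens) ∧
            ∀ j x x', pullback.snd f k x = t → x ∈ (Q j).opens → pullback.snd f k x' = t →
              x' ∈ (Q j).opens → x' = x) := by
  classical
  have hfin : ∀ y : Y, (f ⁻¹' {y}).Finite := fun y ↦ f.finite_preimage_singleton y
  obtain ⟨V, k, v, hk, hkv, J, _, Q, hinj, hmem, hcov⟩ :=
    exists_pieces f y (f ⁻¹' {y}) (hfin y) fun x hx => hx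
  have := Fintype.ofFinite J
  let p := pullback.snd f k
  have hfinQ := fun j => (Q j).finite
  have h1 : ∀ᶠ t in 𝓝 v, ∀ j, 1 ≤ openIntegral p (Q j).opens (fun _ => 1) t :=
    Filter.eventually_all.mpr fun j => by
      have hop := h _ (hmem j) V k (Q j).pt rfl _ ((Q j).opens.2.mem_nhds (Q j).pt_mem)
      rw [(Q j).snd_pt] at hop
      filter_upwards [hop] with t ht
      obtain ⟨x, hx, hxt⟩ := ht
      let vb := algClosurePt t
      obtain ⟨σ, hσ, -⟩ := exists_mem_openPts p (Q j).opens vb hx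
        (hxt.trans (ptOf_algClosurePt t).symm)
      rw [openIntegral_eq_sum p (Q j).opens vb _ (ptOf_algClosurePt t),
        finsum_mem_eq_finite_toFinset_sum _ (finite_openPts _ _ vb)]
      exact Finset.single_le_sum (f := fun _ => (1 : ℤ)) (fun _ _ => zero_le_one)
        ((Set.Finite.mem_toFinset _).mpr hσ)
  have h2 : ∀ᶠ t in 𝓝 v, ∀ i j, i ≠ j → ∀ x, pullback.snd f k x = t → x ∈ (Q i).opens →
      x ∉ (Q j).opens :=
    Filter.eventually_all.mpr fun i => Filter.eventually_all.mpr fun j => by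
      by_cases hij : i = j
      · exact .of_forall fun t h => absurd hij h
      exact (eventually_disjoint (pullback.snd f k) v (Q i).opens (Q j).opens ⊤
        (fun _ _ _ => trivial) (fun _ _ _ => trivial) fun x hxv hi hj => hij (hinj
          (((Q i).eq_pt x hi hxv).symm.trans ((Q j).eq_pt x hj hxv)))).mono fun t h _ => h
  refine ⟨V, k, v, hk, hkv, J, inferInstance, Q, ?_⟩
  have main : ∀ t, (∀ i j, i ≠ j → ∀ x, p x = t → x ∈ (Q i).opens → x ∉ (Q j).opens) →
      (∑ j, openIntegral p (Q j).opens (fun _ => 1) t) ≤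
        MoreMor.fibreIntegral f (fun _ ↦ 1) (k t) ∧
      ((∑ j, openIntegral p (Q j).opens (fun _ => 1) t) =
        MoreMor.fibreIntegral f (fun _ ↦ 1) (k t) ↔ ∀ x, p x = t → ∃ j, x ∈ (Q j).opens) := by
    intro t hdisj
    let vb := algClosurePt t
    have hv : ptOf (vb ≫ k) = k t := by rw [ptOf_comp, ptOf_algClosurePt]
    have := finite_geomPt f (vb ≫ k) (hfin _)
    have := Finite.of_equiv _ (geomPtBaseChange (IsPullback.of_hasPullback f k) vb).symm
    have := Fintype.ofFinite (GeomPt p vb)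
    rw [← fibreIntegral_baseChange (IsPullback.of_hasPullback f k) (fun _ ↦ (1 : ℤ)) t (hfin _)]
    change _ ≤ MoreMor.fibreIntegral p (fun _ ↦ 1) t ∧
      (_ = MoreMor.fibreIntegral p (fun _ ↦ 1) t ↔ _)
    rw [fibreIntegral_eq_sum _ vb _ (ptOf_algClosurePt t), finsum_eq_sum_of_fintype]
    have hsum : (∑ j, openIntegral p (Q j).opens (fun _ => (1 : ℤ)) t) =
        ∑ σ ∈ (⋃ j, openPts p (Q j).opens vb).toFinset, (1 : ℤ) := by
      rw [← finsum_mem_eq_toFinset_sum, finsum_mem_iUnion (t := fun j => openPts _ (Q j).opens vb)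
        (fun i j hij => Set.disjoint_left.mpr fun σ hi hj => hdisj i j hij _
          (σ.apply_ptOf.trans (ptOf_algClosurePt t)) hi hj) (fun j => Set.toFinite _),
        finsum_eq_sum_of_fintype]
      exact Finset.sum_congr rfl fun j _ =>
        openIntegral_eq_sum _ (Q j).opens vb _ (ptOf_algClosurePt t)
    rw [hsum]
    refine ⟨Finset.sum_le_univ_sum_of_nonneg fun σ => zero_le_one, ?_, fun H => ?_⟩
    · intro heq x hx
      obtain ⟨σ, hσ⟩ := exists_geomPt_at p vb x (hx.trans (ptOf_algClosurePt t).symm)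
      by_contra hxQ
      refine absurd heq (ne_of_lt (Finset.sum_lt_sum_of_subset (i := σ) (Finset.subset_univ _)
        (Finset.mem_univ _) (fun h => hxQ ?_) zero_lt_one fun τ _ _ => zero_le_one))
      obtain ⟨j, hj⟩ := Set.mem_iUnion.mp (Set.mem_toFinset.mp h)
      exact ⟨j, hσ ▸ hj⟩
    · refine Finset.sum_congr (Finset.eq_univ_iff_forall.mpr fun σ => Set.mem_toFinset.mpr
        (Set.mem_iUnion.mpr (H _ (σ.apply_ptOf.trans (ptOf_algClosurePt t))))) fun _ _ => rfl
  have heq0 : (∑ _j : J, (1 : ℤ)) = MoreMor.fibreIntegral f (fun _ ↦ 1) y := by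
    rw [← hkv, ← (main v h2.self_of_nhds).2.mpr fun x hx => ?_]
    · exact Finset.sum_congr rfl fun j _ => ((Q j).openIntegral_self (fun _ => 1)).symm
    obtain ⟨j, hj⟩ := hcov x hx
      ((congr($(pullback.condition (f := f) (g := k)) x)).trans (by
        rw [Scheme.Hom.comp_apply, hx, hkv]))
    exact ⟨j, hj ▸ (Q j).pt_mem⟩
  filter_upwards [h1, h2] with t t1 t2
  obtain ⟨ht, ht'⟩ := main t t2
  have hle := heq0.symm.le.trans (Finset.sum_le_sum fun j (_ : j ∈ Finset.univ) => t1 j)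
  refine ⟨hle.trans ht, fun h => ⟨ht'.mp (le_antisymm ht (h.le.trans hle)),
    fun j x x' hx hj hx' hj' => ?_⟩⟩
  have h1j : openIntegral p (Q j).opens (fun _ => (1 : ℤ)) t = 1 := by
    have hs : ∑ j, openIntegral p (Q j).opens (fun _ => (1 : ℤ)) t ≤ ∑ _j : J, (1 : ℤ) :=
      ht.trans (h.le.trans heq0.symm.le)
    by_contra hne
    exact absurd hs (not_le.2 (Finset.sum_lt_sum (fun i _ => t1 i) ⟨j, Finset.mem_univ _, lt_of_le_of_ne (t1 j) (Ne.symm hne)⟩))
  let vb := algClosurePt t
  obtain ⟨σ, hσ, hσx⟩ := exists_mem_openPts p (Q j).opens vb hj (hx.trans (ptOf_algClosurePt t).symm)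
  obtain ⟨σ', hσ', hσx'⟩ := exists_mem_openPts p (Q j).opens vb hj' (hx'.trans (ptOf_algClosurePt t).symm)
  rw [openIntegral_eq_sum p (Q j).opens vb _ (ptOf_algClosurePt t),
    finsum_mem_eq_finite_toFinset_sum _ (finite_openPts _ _ vb), Finset.sum_const, nsmul_one,
    Nat.cast_eq_one] at h1j
  have heq : σ' = σ := Finset.card_le_one.1 h1j.le _ ((Set.Finite.mem_toFinset _).mpr hσ') _
    ((Set.Finite.mem_toFinset _).mpr hσ)
  rw [← hσx, ← hσx', heq]

/-- Over a geometrically unibranch point with locally constant geometric number of points, a point has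
one maximal generization. -/
theorem max_generization_unique [UniversallyOpen f] (hY : ∀ y : Y, CAlg2.IsGeomUnibranch (Y.presheaf.stalk y))
    (x : X) (hc : ∀ᶠ z in 𝓝 (f x), MoreMor.nGeomConnComp f z = MoreMor.nGeomConnComp f (f x))
    {ξ ξ' : X} (hξ : IsMax ξ) (hξx : ξ ⤳ x) (hξ' : IsMax ξ') (hξx' : ξ' ⤳ x) : ξ = ξ' := by
  obtain ⟨V, k, v, hk, hkv, J, _, Q, hQ⟩ :=
    exists_exhaust_unique f (f x) fun x' _ => isUnivOpenAt_of_universallyOpen f x'
  obtain ⟨N, hN, hNo, hvN⟩ := eventually_nhds_iff.mp hQ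
  obtain ⟨W, hW, hWo, hxW⟩ := eventually_nhds_iff.mp hc
  obtain ⟨z, hz₁, hz₂⟩ := Scheme.Pullback.exists_preimage_pullback (f := f) (g := k) x v hkv.symm
  haveI : UniversallyOpen (pullback.snd f k) := MorphismProperty.pullback_snd f k inferInstance
  haveI : LocallyOfFiniteType (pullback.snd f k) := MorphismProperty.pullback_snd f k inferInstance
  haveI : Etale (pullback.fst f k) := MorphismProperty.pullback_fst f k hk
  have hlift : ∀ {η : X}, IsMax η → η ⤳ x → ∃ a : ↥(pullback f k), IsMax a ∧ a ⤳ z ∧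
      pullback.fst f k a = η := by
    intro η hη hηx
    obtain ⟨a', ha', ha'η⟩ := Flat.generalizingMap (pullback.fst f k) (hz₁.symm ▸ hηx)
    obtain ⟨a, ha, haa'⟩ := Groth.FibreDim.exists_max_specializes a'
    refine ⟨a, ha, haa'.trans ha', ?_⟩
    have h1 : pullback.fst f k a ⤳ η := ha'η ▸ haa'.map (pullback.fst f k).continuous
    exact (h1.antisymm (hη h1)).eq
  have hsnd : ∀ {a : ↥(pullback f k)}, IsMax a → a ⤳ z →
      IsMax (pullback.snd f k a) ∧ pullback.snd f k a ⤳ v := by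
    intro a ha haz
    refine ⟨fun t ht => ?_, hz₂ ▸ haz.map (pullback.snd f k).continuous⟩
    obtain ⟨b, hb, hbt, -⟩ := Groth.EGA43Topo.exists_generization_of_isUnivOpenAt
      (isUnivOpenAt_of_universallyOpen (pullback.snd f k) a)
      (fun w _ hw => (hw.antisymm (ha hw)).eq) ht
    exact le_of_eq (hbt ▸ congrArg (pullback.snd f k) (hb.antisymm (ha hb)).eq)
  obtain ⟨a, ha, haz, hafst⟩ := hlift hξ hξx
  obtain ⟨a', ha', haz', hafst'⟩ := hlift hξ' hξx'
  obtain ⟨htmax, htv⟩ := hsnd ha haz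
  obtain ⟨htmax', htv'⟩ := hsnd ha' haz'
  have hV : CAlg2.IsGeomUnibranch (V.presheaf.stalk v) :=
    Groth.EtaleBaseTwo.isGeomUnibranch_stalk_of_etale k v (hY (k v))
  have htt : pullback.snd f k a' = pullback.snd f k a :=
    Groth.EGA43Topo.CompUnique.max_unique_of_isUnibranch hV.1 htmax' htv' htmax htv
  have heqn : ∀ t : V, t ⤳ v → MoreMor.fibreIntegral f (fun _ ↦ 1) (k t) =
      MoreMor.fibreIntegral f (fun _ ↦ 1) (f x) := by
    intro t ht
    obtain ⟨m, hm, hm'⟩ := exists_nGeomConnComp_eq f (f x) (f.finite_preimage_singleton _)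
    obtain ⟨m', hn, hn'⟩ := exists_nGeomConnComp_eq f (k t) (f.finite_preimage_singleton _)
    have := hW _ ((hkv ▸ ht.map k.continuous).mem_open hWo hxW)
    rw [hm, hn] at this
    rw [hm', hn']
    exact_mod_cast this
  obtain ⟨i, hi⟩ := ((hN v hvN).2 (heqn v specializes_rfl)).1 z hz₂
  have haa : a' = a := ((hN _ (htv.mem_open hNo hvN)).2 (heqn _ htv)).2 i a a' rfl
    (haz.mem_open (Q i).opens.2 hi) htt (haz'.mem_open (Q i).opens.2 hi)
  rw [← hafst, ← hafst', haa]

end Groth.NGeomPts
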