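import Groth.Agent.NGeomPts.Count
import Groth.Agent.Limits.DVRPoints
import Groth.Agent.ModelsGraphs.Unramified

/-!
# Discrete valuation rings splitting the fibres of a quasi-finite morphism
-/

universe u

open CategoryTheory CategoryTheory.Limits AlgebraicGeometry IsLocalRing

namespace Groth.NGeomPts

open Groth.FlatMor2

variable {X Y : Scheme.{u}} (f : X ⟶ Y) [LocallyQuasiFinite f] [LocallyOfFiniteType f]
  [QuasiCompact f]

theorem natCard_geomPt {Ω : Type u} [Field Ω] [IsAlgClosed Ω]
    (vb : Spec (CommRingCat.of Ω) ⟶ Y) {z : Y} (hz : ptOf vb = z) :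
    Finite (GeomPt f vb) ∧ MoreMor.nGeomConnComp f z = Nat.card (GeomPt f vb) := by
  have := finite_geomPt f vb (f.finite_preimage_singleton _)
  refine ⟨this, ?_⟩
  have := Fintype.ofFinite (GeomPt f vb)
  obtain ⟨m, hm, hm'⟩ := exists_nGeomConnComp_eq f z (f.finite_preimage_singleton z)
  rw [fibreIntegral_eq_sum f vb _ hz, finsum_eq_sum_of_fintype] at hm'
  rw [hm, Nat.card_eq_fintype_card]
  simp at hm'
  exact_mod_cast hm'.symm

theorem precomp_injective {F F' : Type u} [Field F] [Field F'] (i : F →+* F') {W : Scheme.{u}}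
    {a b : Spec (CommRingCat.of F) ⟶ W}
    (h : Spec.map (CommRingCat.ofHom i) ≫ a = Spec.map (CommRingCat.ofHom i) ≫ b) : a = b := by
  have hpt : ptOf a = ptOf b := by
    have := congrArg (fun m : Spec (CommRingCat.of F') ⟶ W ↦ m default) h
    simp only [Scheme.Hom.comp_apply] at this
    rw [Subsingleton.elim (Spec.map (CommRingCat.ofHom i) default) default] at this
    exact this
  generalize hw : ptOf a = w at hpt
  obtain ⟨φ, rfl⟩ := exists_factor_at a hw
  obtain ⟨φ', rfl⟩ := exists_factor_at b hpt.symm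
  rw [← Spec.map_comp_assoc, ← Spec.map_comp_assoc] at h
  have h' := Flatmor4.specMap_fromSpecResidueField_inj h
  rw [show φ = φ' from CommRingCat.hom_ext (RingHom.ext fun x ↦
    i.injective (ConcreteCategory.congr_hom h' x))]

/-- `k` splits the fibre of `f` over `z` when all geometric points are rational over it. -/
def Splits {F : Type u} [Field F] (k : Spec (CommRingCat.of F) ⟶ Y) (z : Y) : Prop :=
  Finite (GeomPt f k) ∧ MoreMor.nGeomConnComp f z = Nat.card (GeomPt f k)

theorem splits_mono {F F' : Type u} [Field F] [Field F'] (i : F →+* F')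
    (k : Spec (CommRingCat.of F) ⟶ Y) {z : Y} (hz : ptOf k = z) (h : Splits f k z) :
    Splits f (Spec.map (CommRingCat.ofHom i) ≫ k) z := by
  let Ω := AlgebraicClosure F'
  let j := Spec.map (CommRingCat.ofHom (algebraMap F' Ω))
  let k' := Spec.map (CommRingCat.ofHom i) ≫ k
  have hz' : ptOf (j ≫ k') = z := by
    rw [← hz, ptOf_comp, Scheme.Hom.comp_apply]
    exact congrArg k (Subsingleton.elim _ _)
  obtain ⟨hfinΩ, hcard⟩ := natCard_geomPt f (j ≫ k') hz'
  let a : GeomPt f k → GeomPt f k' := fun σ ↦ ⟨Spec.map (CommRingCat.ofHom i) ≫ σ.1, by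
    rw [Category.assoc, σ.2]⟩
  let b : GeomPt f k' → GeomPt f (j ≫ k') := fun σ ↦ ⟨j ≫ σ.1, by rw [Category.assoc, σ.2]⟩
  have ha : Function.Injective a := fun σ τ e ↦
    Subtype.ext (precomp_injective i (congrArg Subtype.val e))
  have hb : Function.Injective b := fun σ τ e ↦
    Subtype.ext (precomp_injective _ (congrArg Subtype.val e))
  have : Finite (GeomPt f k') := Finite.of_injective b hb
  refine ⟨this, le_antisymm ?_ ?_⟩
  · rw [h.2]
    exact_mod_cast Nat.card_le_card_of_injective a ha
  · rw [hcard]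
    exact_mod_cast Nat.card_le_card_of_injective b hb

/-- A split fibre has as many points as geometric points. -/
theorem card_pullback_of_splits {F : Type u} [Field F] (k : Spec (CommRingCat.of F) ⟶ Y) {z : Y}
    (hz : ptOf k = z) (h : Splits f k z) :
    MoreMor.nGeomConnComp f z = ENat.card ↥(pullback f k) := by
  let π := pullback.snd f k
  let Ω := AlgebraicClosure F
  let j := Spec.map (CommRingCat.ofHom (algebraMap F Ω))
  have hz' : ptOf (j ≫ k) = z := by
    rw [← hz, ptOf_comp]
    exact congrArg k (Subsingleton.elim _ _)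
  obtain ⟨hfinΩ, hcard⟩ := natCard_geomPt f (j ≫ k) hz'
  let eΩ := geomPtBaseChange (IsPullback.of_hasPullback f k) j
  have hsurj : Function.Surjective fun σ : GeomPt π j ↦ ptOf σ.1 := fun u ↦
    exists_geomPt_at π j u (Subsingleton.elim _ _)
  have := Finite.of_equiv _ eΩ.symm
  have hfinP : Finite ↥(pullback f k) := Finite.of_surjective _ hsurj
  have hle : Nat.card ↥(pullback f k) ≤ Nat.card (GeomPt f (j ≫ k)) :=
    (Nat.card_le_card_of_surjective _ hsurj).trans_eq (Nat.card_congr eΩ)
  let sec : GeomPt f k → ↥(pullback f k) := fun σ ↦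
    ptOf (pullback.lift σ.1 (𝟙 _) (by rw [σ.2, Category.id_comp]))
  have hsec : Function.Injective sec := by
    intro σ τ e
    obtain ⟨φ, hφ⟩ := exists_factor_at (pullback.lift (f := f) (g := k) σ.1 (𝟙 _)
      (by rw [σ.2, Category.id_comp])) rfl
    obtain ⟨φ', hφ'⟩ := exists_factor_at (pullback.lift (f := f) (g := k) τ.1 (𝟙 _)
      (by rw [τ.2, Category.id_comp])) e.symm
    obtain ⟨a, ha⟩ := Spec.map_surjective ((pullback f k).fromSpecResidueField (sec σ) ≫ π)
    have h1 : a ≫ φ = 𝟙 _ := Spec.map_injective (by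
      rw [Spec.map_comp, ha, reassoc_of% hφ, Spec.map_id]
      exact pullback.lift_snd _ _ _)
    have h2 : a ≫ φ' = 𝟙 _ := Spec.map_injective (by
      rw [Spec.map_comp, ha, reassoc_of% hφ', Spec.map_id]
      exact pullback.lift_snd _ _ _)
    have hs : ∀ x, a.hom (φ.hom x) = x := fun x ↦
      φ.hom.injective (ConcreteCategory.congr_hom h1 (φ.hom x))
    have hφeq : φ = φ' := CommRingCat.hom_ext (RingHom.ext fun x ↦ by
      have h2x : φ'.hom (a.hom (φ.hom x)) = φ.hom x := ConcreteCategory.congr_hom h2 (φ.hom x)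
      exact h2x.symm.trans (congrArg φ'.hom (hs x)))
    refine Subtype.ext ?_
    have := hφ.symm.trans ((congrArg (fun c ↦ Spec.map c ≫ _) hφeq).trans hφ')
    have h4 := congr($this ≫ pullback.fst f k)
    rwa [pullback.lift_fst, pullback.lift_fst] at h4
  rw [ENat.card_eq_coe_natCard]
  refine le_antisymm ?_ ?_
  · rw [h.2]
    exact_mod_cast Nat.card_le_card_of_injective sec hsec
  · rw [hcard]
    exact_mod_cast hle

/-- A finite extension of the residue field splits the fibre. -/
theorem exists_splits (z : Y) : ∃ (K : IntermediateField (Y.residueField z)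
    (AlgebraicClosure (Y.residueField z))), FiniteDimensional (Y.residueField z) K ∧
      Splits f (Spec.map (CommRingCat.ofHom (algebraMap (Y.residueField z) K)) ≫
        Y.fromSpecResidueField z) z := by
  classical
  let κ := Y.residueField z
  let Ω := AlgebraicClosure κ
  obtain ⟨hfin, hcard⟩ := natCard_geomPt f (algClosurePt z) (ptOf_algClosurePt z)
  have hgen : ∀ σ : GeomPt f (algClosurePt z), ∃ (G : Finset Ω)
      (φ : X.residueField (ptOf σ.1) ⟶ CommRingCat.of Ω),
      Spec.map φ ≫ X.fromSpecResidueField _ = σ.1 ∧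
      ∀ x, φ x ∈ IntermediateField.adjoin κ (G : Set Ω) := by
    intro σ
    set p := ptOf σ.1 with hp
    obtain ⟨φ, hφ⟩ := exists_factor_at σ.1 hp.symm
    let := (f.residueFieldMap p).hom.toAlgebra
    have : Module.Finite (Y.residueField (f p)) (X.residueField p) :=
      Flatmor4.finite_residueFieldMap f (f.quasiFiniteAt p)
    obtain ⟨b, hb⟩ := Module.Finite.fg_top (R := Y.residueField (f p)) (M := X.residueField p)
    refine ⟨b.image φ, φ, hφ, ?_⟩
    have hbase : ∀ (w : Y) (ψ : Y.residueField w ⟶ CommRingCat.of Ω),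
        Spec.map ψ ≫ Y.fromSpecResidueField w = algClosurePt z → w = z → ∀ c, ψ c ∈ Set.range (algebraMap κ Ω) := by
      rintro w ψ hψ rfl c
      rw [Flatmor4.specMap_fromSpecResidueField_inj hψ]
      exact ⟨c, rfl⟩
    have hcoef : ∀ c, φ (f.residueFieldMap p c) ∈
        IntermediateField.adjoin κ ((b.image φ : Finset Ω) : Set Ω) := by
      intro c
      obtain ⟨c', hc'⟩ := hbase (f p) (f.residueFieldMap p ≫ φ) (by
        rw [Spec.map_comp, Category.assoc,
          Scheme.Hom.SpecMap_residueFieldMap_fromSpecResidueField, reassoc_of% hφ, σ.2])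
        (σ.apply_ptOf.trans (ptOf_algClosurePt z)) c
      exact hc' ▸ IntermediateField.algebraMap_mem _ _
    intro x
    have hx : x ∈ Submodule.span (Y.residueField (f p)) (b : Set (X.residueField p)) := hb ▸ trivial
    induction hx using Submodule.span_induction with
    | mem x hx => exact IntermediateField.subset_adjoin _ _ (Finset.mem_image_of_mem _ hx)
    | zero => exact (map_zero φ.hom).symm ▸ zero_mem _
    | add x y _ _ hx hy => exact (map_add φ.hom x y).symm ▸ add_mem hx hy
    | smul c x _ hx => exact (map_mul φ.hom _ x).symm ▸ mul_mem (hcoef c) hx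
  choose G φ hφ hmem using hgen
  have := Fintype.ofFinite (GeomPt f (algClosurePt z))
  let S : Finset Ω := Finset.univ.biUnion G
  let K := IntermediateField.adjoin κ (S : Set Ω)
  have hK : FiniteDimensional κ K := IntermediateField.finiteDimensional_adjoin
    fun x _ ↦ (Algebra.IsAlgebraic.isAlgebraic (R := κ) x).isIntegral
  refine ⟨K, hK, ?_⟩
  let k := Spec.map (CommRingCat.ofHom (algebraMap κ K)) ≫ Y.fromSpecResidueField z
  let i := Spec.map (CommRingCat.ofHom (algebraMap K Ω))
  have hik : i ≫ k = algClosurePt z := by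
    rw [← Spec.map_comp_assoc]
    rfl
  let b : GeomPt f k → GeomPt f (algClosurePt z) := fun σ ↦
    ⟨i ≫ σ.1, by rw [Category.assoc, σ.2, hik]⟩
  have hb : Function.Injective b := fun σ τ e ↦
    Subtype.ext (precomp_injective _ (congrArg Subtype.val e))
  have hb' : Function.Surjective b := by
    intro σ
    have hle : ∀ x, φ σ x ∈ K := fun x ↦ IntermediateField.adjoin.mono _ _ _
      (Finset.coe_subset.2 (Finset.subset_biUnion_of_mem G (Finset.mem_univ σ))) (hmem σ x)
    let φ' : X.residueField (ptOf σ.1) ⟶ CommRingCat.of K :=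
      CommRingCat.ofHom ((φ σ).hom.codRestrict K hle)
    have e : i ≫ Spec.map φ' ≫ X.fromSpecResidueField _ = σ.1 := by
      rw [← Spec.map_comp_assoc]
      exact hφ σ
    refine ⟨⟨Spec.map φ' ≫ X.fromSpecResidueField _, precomp_injective (algebraMap K Ω) ?_⟩,
      Subtype.ext e⟩
    rw [← Category.assoc, e, σ.2, hik]
  exact ⟨Finite.of_injective b hb, by rw [hcard, Nat.card_congr (Equiv.ofBijective b ⟨hb, hb'⟩)]⟩

/-- Points of a fibre of a base change, computed along a preimmersion. -/
theorem card_fiber_eq {Z T : Scheme.{u}} (g : T ⟶ Y) (j : Z ⟶ T) [IsPreimmersion j] {t : T}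
    (hj : Set.range j = {t}) :
    ENat.card ↥((pullback.snd f g).fiber t) = ENat.card ↥(pullback f (j ≫ g)) := by
  let p := pullback.snd f g
  rw [ENat.card_congr (p.fiberHomeo t).toEquiv,
    ← ENat.card_congr (pullbackLeftPullbackSndIso f g j).hom.homeomorph.toEquiv,
    ENat.card_congr (Equiv.ofInjective _ (pullback.fst p j).isEmbedding.injective)]
  refine ENat.card_congr (Equiv.setCongr ?_)
  rw [Scheme.Pullback.range_fst, hj]

/-- A discrete valuation ring realising the geometric numbers of points at two points. -/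
theorem exists_dvr_split [IsLocallyNoetherian Y] (y y' : Y) (hne : y' ≠ y) (hgen : y' ⤳ y) :
    ∃ (A : Type u) (_ : CommRing A) (_ : IsDomain A) (_ : IsDiscreteValuationRing A)
      (g : Spec (CommRingCat.of A) ⟶ Y),
      g (closedPoint A) = y ∧ g (genericPoint (Spec (CommRingCat.of A))) = y' ∧
      MoreMor.nGeomConnComp f y = ENat.card ↥((pullback.snd f g).fiber (closedPoint A)) ∧
      MoreMor.nGeomConnComp f y' =
        ENat.card ↥((pullback.snd f g).fiber (genericPoint (Spec (CommRingCat.of A)))) := by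
  obtain ⟨K, hK, hsplit⟩ := exists_splits f y'
  let ι : Y.residueField y' ⟶ CommRingCat.of K := CommRingCat.ofHom (algebraMap (Y.residueField y') K)
  let θ₀ := Limits.toResidue (𝟙 Y) y' (show (𝟙 Y : Y ⟶ Y) y' ⤳ y from hgen)
  have hθ₀ : Spec.map θ₀ ≫ Y.fromSpecStalk y = Y.fromSpecResidueField y' ≫ 𝟙 Y :=
    Limits.toResidue_fromSpecStalk _ _ _
  let θ := θ₀ ≫ ι
  have hθ : θ.hom.EssFiniteType := by
    refine RingHom.EssFiniteType.comp (Limits.essFiniteType_toResidue (𝟙 Y) y' hgen) ?_
    exact RingHom.FiniteType.essFiniteType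
      (show (algebraMap (Y.residueField y') K).FiniteType from
        (RingHom.finite_algebraMap.2 hK).finiteType)
  have h0 : ∃ r ∈ maximalIdeal (Y.presheaf.stalk y), θ.hom r ≠ 0 := by
    by_contra hcon
    push Not at hcon
    have : IsLocalHom θ₀.hom := ⟨fun r hr ↦ by
      by_contra hu
      exact (hr.map ι.hom).ne_zero (hcon r hu)⟩
    refine hne ?_
    have e1 := congrArg (fun m : Spec (Y.residueField y') ⟶ Y ↦
      m (closedPoint (Y.residueField y'))) hθ₀
    simp only [Category.comp_id, Scheme.Hom.comp_apply, Scheme.fromSpecResidueField_apply] at e1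
    rw [← e1]
    have : Spec.map θ₀ (closedPoint (Y.residueField y')) = closedPoint (Y.presheaf.stalk y) :=
      comap_closedPoint θ₀.hom
    rw [this, Y.fromSpecStalk_closedPoint]
  obtain ⟨V, hV, hdvr, hloc⟩ := Limits.exists_dvr_valuationSubring θ.hom hθ h0
  obtain ⟨A, _, _, _, φ, hφi, hφl, -, ⟨e, -⟩, -⟩ :=
    ModelsGraphs.Unram.dvr_extension V (AlgebraicClosure (ResidueField V))
  let h₁ : Spec (CommRingCat.of V) ⟶ Y :=
    Spec.map (CommRingCat.ofHom (θ.hom.codRestrict V.toSubring hV)) ≫ Y.fromSpecStalk y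
  let g : Spec (CommRingCat.of A) ⟶ Y := Spec.map (CommRingCat.ofHom φ) ≫ h₁
  have hg : g (closedPoint A) = y := by
    have e1 : Spec.map (CommRingCat.ofHom φ) (closedPoint A) = closedPoint V := comap_closedPoint φ
    have e2 : Spec.map (CommRingCat.ofHom (θ.hom.codRestrict V.toSubring hV)) (closedPoint V) =
        closedPoint (Y.presheaf.stalk y) := comap_closedPoint (θ.hom.codRestrict V.toSubring hV)
    rw [Scheme.Hom.comp_apply, e1, Scheme.Hom.comp_apply, e2, Y.fromSpecStalk_closedPoint]
  -- the generic point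
  let iF : K →+* FractionRing A :=
    IsFractionRing.lift (K := K) (g := (algebraMap A (FractionRing A)).comp φ)
      ((IsFractionRing.injective A _).comp hφi)
  let jη : Spec (CommRingCat.of (FractionRing A)) ⟶ Spec (CommRingCat.of A) :=
    Spec.map (CommRingCat.ofHom (algebraMap A (FractionRing A)))
  have hjη : jη ≫ g = Spec.map (CommRingCat.ofHom iF) ≫
      Spec.map ι ≫ Y.fromSpecResidueField y' := by
    rw [show Y.fromSpecResidueField y' = Spec.map θ₀ ≫ Y.fromSpecStalk y by rw [hθ₀, Category.comp_id]]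
    simp only [g, h₁, jη, ← Spec.map_comp_assoc]
    congr 2
    ext r
    exact (IsFractionRing.lift_algebraMap (K := K) (g := (algebraMap A (FractionRing A)).comp φ)
      ((IsFractionRing.injective A _).comp hφi) ⟨θ.hom r, hV r⟩).symm
  have hrange : Set.range jη = {genericPoint (Spec (CommRingCat.of A))} := by
    ext t
    rw [genericPoint_eq_bot_of_affine, Set.mem_singleton_iff]
    have key : ∀ s, (jη s).asIdeal = ⊥ := fun s ↦ by
      change s.asIdeal.comap (algebraMap A (FractionRing A)) = ⊥
      rw [(Ideal.eq_bot_or_top s.asIdeal).resolve_right s.2.ne_top, ← RingHom.ker_eq_comap_bot,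
        (RingHom.injective_iff_ker_eq_bot _).1 (IsFractionRing.injective _ _)]
    exact ⟨fun ⟨s, hs⟩ ↦ hs ▸ PrimeSpectrum.ext (key s),
      fun h ↦ ⟨default, (PrimeSpectrum.ext (key default)).trans h.symm⟩⟩
  have hη : g (genericPoint (Spec (CommRingCat.of A))) = y' := by
    obtain ⟨s, hs⟩ : genericPoint (Spec (CommRingCat.of A)) ∈ Set.range jη := hrange ▸ rfl
    rw [← hs, ← Scheme.Hom.comp_apply, hjη]
    simp only [Scheme.Hom.comp_apply, Scheme.fromSpecResidueField_apply]
  -- the closed point
  let eκ : A →+* AlgebraicClosure (ResidueField V) := e.toRingHom.comp (residue A)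
  have heκ : Function.Surjective eκ := e.surjective.comp residue_surjective
  let js : Spec (CommRingCat.of (AlgebraicClosure (ResidueField V))) ⟶ Spec (CommRingCat.of A) :=
    Spec.map (CommRingCat.ofHom eκ)
  have : IsClosedImmersion js := IsClosedImmersion.spec_of_surjective _ heκ
  have hranges : Set.range js = {closedPoint A} := by
    have key : ∀ s, js s = closedPoint A := fun s ↦ PrimeSpectrum.ext (by
      have hs : s.asIdeal = ⊥ := (Ideal.eq_bot_or_top s.asIdeal).resolve_right s.2.ne_top
      have := Ideal.comap_isMaximal_of_surjective eκ heκ (K := s.asIdeal) (H := hs ▸ Ideal.bot_isMaximal)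
      exact IsLocalRing.eq_maximalIdeal this)
    exact Set.ext fun t ↦
      ⟨fun ⟨s, hs⟩ ↦ hs ▸ key s, fun h ↦ ⟨default, (key default).trans h.symm⟩⟩
  refine ⟨A, inferInstance, inferInstance, inferInstance, g, hg, hη, ?_, ?_⟩
  · rw [card_fiber_eq f g js hranges]
    have hpt : ptOf (js ≫ g) = y := by
      obtain hs : js default = closedPoint A := hranges.le ⟨default, rfl⟩
      rw [ptOf_comp]
      exact (congrArg g hs).trans hg
    exact card_pullback_of_splits f _ hpt (natCard_geomPt f _ hpt)
  · have : IsPreimmersion jη := IsPreimmersion.of_isLocalization (nonZeroDivisors A)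
    rw [card_fiber_eq f g jη hrange, hjη]
    have hpt : ptOf (Spec.map ι ≫ Y.fromSpecResidueField y') = y' :=
      Flatmor4.specMap_fromSpecResidueField_apply _ _
    refine card_pullback_of_splits f _ ?_ (splits_mono f iF _ hpt hsplit)
    refine Eq.trans ?_ hpt
    rw [ptOf_comp]
    exact congrArg _ (Subsingleton.elim _ _)

end Groth.NGeomPts
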